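import Mathlib
import Groth.Agent.IdealStalkLib.Comap
import Groth.Agent.ModPairLib.ValTest

/-! Closed subschemes descend along quasi-compact flat morphisms. -/

set_option autoImplicit false
set_option backward.isDefEq.respectTransparency false
set_option backward.isDefEq.respectTransparency.types false
set_option backward.defeqAttrib.useBackward true
set_option linter.style.haveILetI false
set_option maxHeartbeats 800000

universe u

open CategoryTheory CategoryTheory.Limits AlgebraicGeometry TensorProduct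

namespace Groth.Agent.HilbDescLib

/-- Compatible ideals in a finite family of flat algebras come from the base. -/
theorem map_iInf_comap_eq {A : Type u} [CommRing A] {ι : Type u} [Finite ι] (B : ι → Type u)
    [∀ a, CommRing (B a)] [∀ a, Algebra A (B a)] [∀ a, Module.Flat A (B a)] (K : ∀ a, Ideal (B a))
    (h : ∀ a b, (K a).map (Algebra.TensorProduct.includeLeft (R := A) (S := A) (A := B a) (B := B b)) =
      (K b).map (Algebra.TensorProduct.includeRight (R := A) (A := B a) (B := B b))) (b : ι) :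
    (⨅ a, (K a).comap (algebraMap A (B a))).map (algebraMap A (B b)) = K b := by
  classical
  haveI := Fintype.ofFinite ι
  let J : Ideal A := ⨅ a, (K a).comap (algebraMap A (B a))
  refine le_antisymm (Ideal.map_le_iff_le_comap.mpr (iInf_le _ b)) fun k hk => ?_
  let g : A →ₗ[A] ∀ a, B a ⧸ K a := LinearMap.pi fun a => (Ideal.Quotient.mkₐ A (K a)).toLinearMap ∘ₗ Algebra.linearMap A (B a)
  have hex : Function.Exact (J.subtype) g := fun x => by
    constructor
    · intro hx
      refine ⟨⟨x, (Submodule.mem_iInf _).mpr fun a => ?_⟩, rfl⟩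
      exact (Ideal.Quotient.eq_zero_iff_mem (I := K a)).mp (congrFun hx a)
    · rintro ⟨⟨x, hx⟩, rfl⟩
      funext a
      exact Ideal.Quotient.eq_zero_iff_mem.mpr ((Submodule.mem_iInf _).mp hx a)
  have hzero : (g.lTensor (B b)) (k ⊗ₜ[A] 1) = 0 := by
    refine (TensorProduct.piRight A A (B b) (fun a => B a ⧸ K a)).injective (funext fun a => ?_)
    rw [map_zero, Pi.zero_apply, LinearMap.lTensor_tmul]
    show (TensorProduct.piRightHom A A (B b) (fun a => B a ⧸ K a)) (k ⊗ₜ[A] g 1) a = 0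
    rw [TensorProduct.piRightHom_tmul]
    let φ : B b ⊗[A] B a →ₐ[A] B b ⊗[A] (B a ⧸ K a) :=
      Algebra.TensorProduct.map (AlgHom.id A (B b)) (Ideal.Quotient.mkₐ A (K a))
    have hle : (K b).map (Algebra.TensorProduct.includeLeft (R := A) (S := A) (A := B b) (B := B a)) ≤
        RingHom.ker φ := by
      rw [h b a, Ideal.map_le_iff_le_comap]
      intro x hx
      show φ (1 ⊗ₜ[A] x) = 0
      rw [Algebra.TensorProduct.map_tmul, Ideal.Quotient.mkₐ_eq_mk, Ideal.Quotient.eq_zero_iff_mem.mpr hx, TensorProduct.tmul_zero]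
    have h0 : φ (k ⊗ₜ[A] (1 : B a)) = 0 := hle (Ideal.mem_map_of_mem _ hk)
    rw [Algebra.TensorProduct.map_tmul, AlgHom.id_apply, map_one] at h0
    refine Eq.trans ?_ h0
    show k ⊗ₜ[A] (Ideal.Quotient.mk (K a) (algebraMap A (B a) 1)) = _
    rw [map_one, map_one]
  obtain ⟨z, hz⟩ := (Module.Flat.lTensor_exact (B b) hex _).mp hzero
  have hrid : (TensorProduct.rid A (B b)) (J.subtype.lTensor (B b) z) = k := by
    rw [hz, TensorProduct.rid_tmul, one_smul]
  rw [← hrid]
  clear hrid hz hzero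
  induction z using TensorProduct.induction_on with
  | zero => simp
  | tmul x j =>
    rw [LinearMap.lTensor_tmul, TensorProduct.rid_tmul, Algebra.smul_def]
    exact Ideal.mul_mem_right _ _ (Ideal.mem_map_of_mem _ j.2)
  | add y w hy hw => rw [map_add, map_add]; exact add_mem hy hw

variable {P X : Scheme.{u}}

open ModPairLib in
theorem topIdeal_comap_fromSpec (I : P.IdealSheafData) {W : P.Opens} (hW : IsAffineOpen W) :
    topIdeal (I.comap hW.fromSpec) = I.ideal ⟨W, hW⟩ := by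
  rw [topIdeal, IdealStalkLib.comap_ideal I hW.fromSpec hW (isAffineOpen_top (Spec Γ(P, W))) hW.fromSpec_preimage_self.ge]
  have : hW.fromSpec.appLE W ⊤ hW.fromSpec_preimage_self.ge = (Scheme.ΓSpecIso Γ(P, W)).inv := by
    rw [Scheme.Hom.appLE, hW.fromSpec_app_self, Category.assoc, ← Functor.map_comp]
    exact (congrArg (_ ≫ ·) ((Spec Γ(P, W)).presheaf.map_id _)).trans (Category.comp_id _)
  rw [this]
  exact Ideal.comap_map_of_bijective _ ((Scheme.ΓSpecIso Γ(P, W)).symm.commRingCatIsoToRingEquiv.bijective)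

/-- Closed subschemes descend along quasi-compact flat morphisms. -/
theorem comap_map_eq_of_descent (h : P ⟶ X) [QuasiCompact h] [Flat h] (I : P.IdealSheafData)
    (hI : I.comap (pullback.fst h h) = I.comap (pullback.snd h h)) : (I.map h).comap h = I := by
  classical
  refine le_antisymm (Scheme.IdealSheafData.le_map_iff_comap_le.mp le_rfl) ?_
  let ι₀ := {W : P.affineOpens // ∃ V : X.affineOpens, W.1 ≤ h ⁻¹ᵁ V.1}
  have hcov : ⨆ W : ι₀, (W.1 : P.Opens) = ⊤ := by
    refine top_le_iff.mp fun x _ => ?_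
    obtain ⟨V, hV, hxV, -⟩ := exists_isAffineOpen_mem_and_subset (show h x ∈ (⊤ : X.Opens) from trivial)
    obtain ⟨W, hW, hxW, hWV⟩ := exists_isAffineOpen_mem_and_subset (show x ∈ h ⁻¹ᵁ V from hxV)
    exact TopologicalSpace.Opens.mem_iSup.mpr ⟨⟨⟨W, hW⟩, ⟨V, hV⟩, hWV⟩, hxW⟩
  refine le_of_eq (Scheme.IdealSheafData.ext_of_iSup_eq_top (fun W : ι₀ => W.1) hcov ?_)
  rintro ⟨W, V, hWV⟩
  refine le_antisymm ?_ ((Scheme.IdealSheafData.le_map_iff_comap_le.mp (le_rfl : I.map h ≤ I.map h)) W)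
  -- finitely many affines covering the preimage
  obtain ⟨s, hsfin, hs⟩ := isCompact_and_isOpen_iff_finite_and_eq_biUnion_affineOpens.mp
    (show IsCompact ((h ⁻¹ᵁ V.1 : P.Opens) : Set P) ∧ IsOpen ((h ⁻¹ᵁ V.1 : P.Opens) : Set P) from
      ⟨h.isCompact_preimage V.2.isCompact, (h ⁻¹ᵁ V.1).2⟩)
  let ι₁ := ↥(insert W s : Set P.affineOpens)
  haveI : Finite ι₁ := (hsfin.insert W).to_subtype
  have hle : ∀ a : ι₁, (a.1 : P.Opens) ≤ h ⁻¹ᵁ V.1 := by
    rintro ⟨a, rfl | ha⟩
    · exact hWV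
    · intro x hx
      exact hs.ge (Set.mem_biUnion ha hx)
  let B : ι₁ → Type u := fun a => Γ(P, a.1.1)
  letI : ∀ a, Algebra Γ(X, V.1) (B a) := fun a => (h.appLE V.1 a.1.1 (hle a)).hom.toAlgebra
  haveI : ∀ a, Module.Flat Γ(X, V.1) (B a) := fun a => h.flat_appLE V.2 a.1.2 (hle a)
  let K : ∀ a, Ideal (B a) := fun a => I.ideal a.1
  have hK : ∀ a b, (K a).map (Algebra.TensorProduct.includeLeft (R := Γ(X, V.1)) (S := Γ(X, V.1)) (A := B a) (B := B b)) =
      (K b).map (Algebra.TensorProduct.includeRight (R := Γ(X, V.1)) (A := B a) (B := B b)) := by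
    intro a b
    let iL : B a →+* B a ⊗[Γ(X, V.1)] B b :=
      (Algebra.TensorProduct.includeLeft (R := Γ(X, V.1)) (S := Γ(X, V.1)) (A := B a) (B := B b)).toRingHom
    let iR : B b →+* B a ⊗[Γ(X, V.1)] B b :=
      (Algebra.TensorProduct.includeRight (R := Γ(X, V.1)) (A := B a) (B := B b)).toRingHom
    have e : (Spec.map (CommRingCat.ofHom iL) ≫ a.1.2.fromSpec) ≫ h =
        (Spec.map (CommRingCat.ofHom iR) ≫ b.1.2.fromSpec) ≫ h := by
      rw [Category.assoc, Category.assoc, ← V.2.SpecMap_appLE_fromSpec h a.1.2 (hle a),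
        ← V.2.SpecMap_appLE_fromSpec h b.1.2 (hle b), ← Category.assoc, ← Category.assoc, ← Spec.map_comp, ← Spec.map_comp]
      congr 2
      ext x
      exact (Algebra.TensorProduct.includeLeft.commutes x).trans (Algebra.TensorProduct.includeRight.commutes x).symm
    let t : Spec (CommRingCat.of (B a ⊗[Γ(X, V.1)] B b)) ⟶ pullback h h := pullback.lift _ _ e
    have h1 := congrArg (fun J => ModPairLib.topIdeal (J.comap t)) hI
    simp only [← Scheme.IdealSheafData.comap_comp, t, pullback.lift_fst, pullback.lift_snd] at h1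
    rw [Scheme.IdealSheafData.comap_comp, Scheme.IdealSheafData.comap_comp] at h1
    exact (congrArg (Ideal.map iL) (topIdeal_comap_fromSpec I a.1.2)).symm.trans
      ((ModPairLib.topIdeal_comap iL _).symm.trans (h1.trans ((ModPairLib.topIdeal_comap iR _).trans
        (congrArg (Ideal.map iR) (topIdeal_comap_fromSpec I b.1.2)))))
  have hkey := map_iInf_comap_eq B K hK ⟨W, Set.mem_insert W s⟩
  refine hkey.ge.trans ?_
  rw [IdealStalkLib.comap_ideal (I.map h) h V.2 W.2 hWV]
  refine Ideal.map_mono fun x hx => ?_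
  show x ∈ ((I.subschemeι ≫ h).ker).ideal V
  rw [Scheme.Hom.ker_apply, RingHom.mem_ker]
  have hcov' : I.subschemeι ⁻¹ᵁ (h ⁻¹ᵁ V.1) ≤ ⨆ a : ι₁, I.subschemeι ⁻¹ᵁ a.1.1 := by
    intro z hz
    obtain ⟨a, ha, hza⟩ := Set.mem_iUnion₂.mp (hs.le hz)
    exact TopologicalSpace.Opens.mem_iSup.mpr ⟨⟨a, Set.mem_insert_of_mem _ ha⟩, hza⟩
  refine TopCat.Sheaf.eq_of_locally_eq' I.subscheme.sheaf (fun a : ι₁ => I.subschemeι ⁻¹ᵁ a.1.1)
    (I.subschemeι ⁻¹ᵁ (h ⁻¹ᵁ V.1)) (fun a => homOfLE (fun z hz => hle a hz)) hcov' _ 0 fun a => ?_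
  refine Eq.trans ?_ (map_zero (I.subscheme.sheaf.obj.map (homOfLE (fun z hz => hle a hz)).op).hom).symm
  show (((I.subschemeι ≫ h).app V.1) ≫ I.subscheme.presheaf.map (homOfLE _).op).hom x = 0
  rw [Scheme.Hom.comp_app, Category.assoc]
  have hnat : I.subschemeι.app (h ⁻¹ᵁ V.1) ≫ I.subscheme.presheaf.map (homOfLE (fun z hz => hle a hz)).op =
      P.presheaf.map (homOfLE (hle a)).op ≫ I.subschemeι.app a.1.1 :=
    (I.subschemeι.naturality (homOfLE (hle a)).op).symm
  rw [hnat]
  show (I.subschemeι.app a.1.1).hom ((h.appLE V.1 a.1.1 (hle a)).hom x) = 0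
  rw [← RingHom.mem_ker, I.ker_subschemeι_app a.1]
  exact (Submodule.mem_iInf _).mp hx a

end Groth.Agent.HilbDescLib
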