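import Mathlib
import Groth.Agent.HilbDescLib.IdealDescent
import Groth.Agent.WeilClosedLib.Factors

/-! Conditions on affine points of a scheme cut out by ideals are closed. -/

set_option autoImplicit false
set_option backward.isDefEq.respectTransparency false
set_option backward.isDefEq.respectTransparency.types false
set_option linter.style.haveILetI false

universe u

namespace Groth.Agent.HilbDescLib

section
open AlgebraicGeometry CategoryTheory ModPairLib

variable {R : Type u} [CommRing R] {X : Over (Spec (CommRingCat.of R))} {F : CommAlgCat.{u} R ⥤ Type u}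

/-- The affine test scheme. -/
noncomputable abbrev test (A : CommAlgCat.{u} R) : Over (Spec (CommRingCat.of R)) :=
  Over.mk (Spec.map (CommRingCat.ofHom (algebraMap R A)))

variable (eX : ∀ A : CommAlgCat.{u} R, (test A ⟶ X) ≃ F.obj A)
  (heX : ∀ (A C : CommAlgCat.{u} R) (φ : A ⟶ C) (g : test A ⟶ X) (g' : test C ⟶ X),
      g'.left = Spec.map (CommRingCat.ofHom φ.hom.toRingHom) ≫ g.left →
        eX C g' = F.map φ (eX A g))
  (P : ∀ A : CommAlgCat.{u} R, F.obj A → Prop) (c : ∀ A : CommAlgCat.{u} R, F.obj A → Ideal A)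
  (hP : ∀ (A C : CommAlgCat.{u} R) (φ : A ⟶ C) (x : F.obj A), P C (F.map φ x) ↔ c A x ≤ RingHom.ker φ.hom)

include heX hP in
theorem key (A C : CommAlgCat.{u} R) (φ : A ⟶ C) (g : test A ⟶ X) (g' : test C ⟶ X)
    (hg : g'.left = Spec.map (CommRingCat.ofHom φ.hom.toRingHom) ≫ g.left) :
    P C (eX C g') ↔ c A (eX A g) ≤ RingHom.ker φ.hom := by
  rw [heX A C φ g g' hg]
  exact hP A C φ (eX A g)

/-- A morphism from an algebra map. -/
abbrev algHomMk {A C : CommAlgCat.{u} R} (ψ : A →ₐ[R] C) : A ⟶ C :=
  ConcreteCategory.ofHom (C := CommAlgCat.{u} R) ψ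

/-- Composing a test point with an algebra map. -/
noncomputable def push {A C : CommAlgCat.{u} R} (φ : A ⟶ C) (g : test A ⟶ X) : test C ⟶ X :=
  Over.homMk (Spec.map (CommRingCat.ofHom φ.hom.toRingHom) ≫ g.left) (by
    rw [Category.assoc, Over.w g]
    show _ ≫ Spec.map _ = Spec.map _
    rw [← Spec.map_comp]
    congr 1
    exact CommRingCat.hom_ext φ.hom.comp_algebraMap)

variable (X) in
/-- The structure of an affine open. -/
noncomputable def chartRing (V : X.left.affineOpens) : CommAlgCat.{u} R :=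
  @CommAlgCat.of R _ ↑(Γ(X.left, V.1)) _
    (RingHom.toAlgebra (R := R) (S := ↑(Γ(X.left, V.1))) (Spec.preimage (V.2.fromSpec ≫ X.hom)).hom)

variable (X) in
/-- The chart. -/
noncomputable def chartPt (V : X.left.affineOpens) : test (chartRing X V) ⟶ X :=
  Over.homMk V.2.fromSpec (Spec.map_preimage (V.2.fromSpec ≫ X.hom)).symm

include heX hP in
theorem exists_ideal : ∃ I : X.left.IdealSheafData, ∀ V, I.ideal V = (c (chartRing X V) (eX (chartRing X V) (chartPt X V)) : Ideal (chartRing X V)) := by
  refine ⟨{ ideal := fun V => (c (chartRing X V) (eX (chartRing X V) (chartPt X V)) : Ideal (chartRing X V)), map_ideal_basicOpen := fun V r => ?_ }, fun _ => rfl⟩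
  let D := X.left.affineBasicOpen (U := V) r
  let res := (X.left.presheaf.map (homOfLE (X.left.basicOpen_le r)).op)
  have hres : Spec.map res ≫ V.2.fromSpec = D.2.fromSpec := V.2.map_fromSpec D.2 _
  let resA : chartRing X V →ₐ[R] chartRing X D :=
    { res.hom with
      commutes' := fun x => by
        have h : Spec.preimage (V.2.fromSpec ≫ X.hom) ≫ res = Spec.preimage (D.2.fromSpec ≫ X.hom) :=
          Spec.map_injective (by rw [Spec.map_comp, Spec.map_preimage, Spec.map_preimage, ← Category.assoc, hres])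
        exact congrArg (fun m : CommRingCat.of R ⟶ _ => m.hom x) h }
  have huniv : ∀ (C : CommAlgCat.{u} R) (ψ : chartRing X D →ₐ[R] C),
      c (chartRing X D) (eX (chartRing X D) (chartPt X D)) ≤ RingHom.ker ψ ↔
        (c (chartRing X V) (eX (chartRing X V) (chartPt X V))).map res.hom ≤ RingHom.ker ψ := by
    intro C ψ
    have h1 := key eX heX P c hP (chartRing X D) C (algHomMk ψ) (chartPt X D) (push (algHomMk ψ) (chartPt X D)) rfl
    have h2 := key eX heX P c hP (chartRing X V) C (algHomMk (ψ.comp resA)) (chartPt X V) (push (algHomMk ψ) (chartPt X D)) (by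
        show _ ≫ D.2.fromSpec = _ ≫ V.2.fromSpec
        rw [← hres, ← Category.assoc, ← Spec.map_comp]
        rfl)
    refine h1.symm.trans (h2.trans ?_)
    rw [Ideal.map_le_iff_le_comap]
    exact Iff.rfl
  refine le_antisymm ?_ ?_
  · have h := (huniv (CommAlgCat.of R (chartRing X D ⧸ c (chartRing X D) (eX (chartRing X D) (chartPt X D))))
      (Ideal.Quotient.mkₐ R _)).1 (le_of_eq (Ideal.mk_ker).symm)
    exact h.trans Ideal.mk_ker.le
  · let J : Ideal (chartRing X D) := (c (chartRing X V) (eX (chartRing X V) (chartPt X V))).map res.hom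
    have h := (huniv (CommAlgCat.of R (chartRing X D ⧸ J)) (Ideal.Quotient.mkₐ R J)).2 (le_of_eq (Ideal.mk_ker).symm)
    exact h.trans Ideal.mk_ker.le

theorem factors_affine_iff (I : X.left.IdealSheafData) (V : X.left.affineOpens) {C : Type u} [CommRing C]
    (ψ : Γ(X.left, V.1) →+* C) :
    (∃ h : Spec (CommRingCat.of C) ⟶ I.subscheme, h ≫ I.subschemeι = Spec.map (CommRingCat.ofHom ψ) ≫ V.2.fromSpec) ↔
      I.ideal V ≤ RingHom.ker ψ := by
  let g := Spec.map (CommRingCat.ofHom ψ) ≫ V.2.fromSpec
  have hK : topIdeal (I.comap g) = (I.ideal V).map ψ := by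
    rw [Scheme.IdealSheafData.comap_comp, topIdeal_comap]
    exact congrArg (Ideal.map ψ) (HilbDescLib.topIdeal_comap_fromSpec I V.2)
  constructor
  · rintro ⟨h, hh⟩
    have h1 : I ≤ (⊥ : (Spec (CommRingCat.of C)).IdealSheafData).map g := by
      rw [Scheme.IdealSheafData.map_bot, show g = h ≫ I.subschemeι from hh.symm]
      exact I.ker_subschemeι.ge.trans (Scheme.Hom.le_ker_comp _ _)
    have h2 : topIdeal (I.comap g) ≤ ⊥ := by
      intro x hx
      have hx' : (Scheme.ΓSpecIso (CommRingCat.of C)).inv.hom x ∈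
          (⊥ : (Spec (CommRingCat.of C)).IdealSheafData).ideal ⟨⊤, isAffineOpen_top _⟩ :=
        (Scheme.IdealSheafData.le_map_iff_comap_le.1 h1) ⟨⊤, isAffineOpen_top _⟩ hx
      rw [Scheme.IdealSheafData.ideal_bot, Pi.bot_apply, Ideal.mem_bot] at hx'
      exact Ideal.mem_bot.2
        ((Scheme.ΓSpecIso (CommRingCat.of C)).symm.commRingCatIsoToRingEquiv.injective (hx'.trans (map_zero _).symm))
    rw [hK, Ideal.map_le_iff_le_comap] at h2
    exact h2
  · intro h
    refine ⟨IsClosedImmersion.lift I.subschemeι g (I.ker_subschemeι.le.trans ?_), IsClosedImmersion.lift_fac _ _ _⟩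
    rw [← Scheme.IdealSheafData.map_bot g, Scheme.IdealSheafData.le_map_iff_comap_le]
    refine le_of_eq (Scheme.IdealSheafData.ext_of_isAffine ?_)
    rw [Scheme.IdealSheafData.ideal_bot, Pi.bot_apply, eq_bot_iff]
    intro x hx
    obtain ⟨c, rfl⟩ := (Scheme.ΓSpecIso (CommRingCat.of C)).symm.commRingCatIsoToRingEquiv.surjective x
    have hc : c ∈ topIdeal (I.comap g) := hx
    rw [hK] at hc
    have hc0 : c = 0 := (Ideal.map_le_iff_le_comap.2 h : (I.ideal V).map ψ ≤ ⊥) hc
    rw [hc0, map_zero]
    exact zero_mem _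

include heX hP in
/-- A condition cut out by ideals on points is closed. -/
theorem exists_closed :
    ∃ (Z : Scheme.{u}) (ι : Z ⟶ X.left), IsClosedImmersion ι ∧
      ∀ (A : CommAlgCat.{u} R) (g : test A ⟶ X),
        (∃ h : (test A).left ⟶ Z, h ≫ ι = g.left) ↔ P A (eX A g) := by
  classical
  obtain ⟨I, hI⟩ := exists_ideal eX heX P c hP
  refine ⟨I.subscheme, I.subschemeι, inferInstance, fun A g => ?_⟩
  -- local data
  have hloc : ∀ y : Spec (CommRingCat.of A), ∃ (r : A) (V : X.left.affineOpens)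
      (ψ : chartRing X V →ₐ[R] Localization.Away r), r ∉ y.asIdeal ∧
      Spec.map (CommRingCat.ofHom ψ.toRingHom) ≫ V.2.fromSpec =
        Spec.map (CommRingCat.ofHom (algebraMap A (Localization.Away r))) ≫ g.left := by
    intro y
    obtain ⟨V, hV, hyV, -⟩ := exists_isAffineOpen_mem_and_subset (show g.left.base y ∈ (⊤ : X.left.Opens) from trivial)
    obtain ⟨_, ⟨r, rfl⟩, hyr, hrV⟩ := PrimeSpectrum.isTopologicalBasis_basic_opens.exists_subset_of_mem_open
      (a := y) (u := ((g.left ⁻¹ᵁ V).carrier : Set (PrimeSpectrum A))) hyV (g.left ⁻¹ᵁ V).2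
    let lr : Spec (CommRingCat.of (Localization.Away r)) ⟶ Spec (CommRingCat.of A) :=
      Spec.map (CommRingCat.ofHom (algebraMap A (Localization.Away r)))
    have hrange : Set.range (lr ≫ g.left).base ⊆ Set.range hV.fromSpec.base := by
      rw [hV.range_fromSpec]
      rintro _ ⟨z, rfl⟩
      refine hrV (?_ : lr.base z ∈ (PrimeSpectrum.basicOpen r : Set (PrimeSpectrum A)))
      rw [← PrimeSpectrum.localization_away_comap_range (Localization.Away r) r]
      exact ⟨z, rfl⟩
    let ψ₀ := Spec.preimage (IsOpenImmersion.lift hV.fromSpec (lr ≫ g.left) hrange)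
    have hψ₀ : Spec.map ψ₀ ≫ hV.fromSpec = lr ≫ g.left := by
      rw [Spec.map_preimage, IsOpenImmersion.lift_fac]
    refine ⟨r, ⟨V, hV⟩, { ψ₀.hom with commutes' := fun x => ?_ }, hyr, hψ₀⟩
    have h : Spec.preimage (hV.fromSpec ≫ X.hom) ≫ ψ₀ = CommRingCat.ofHom (algebraMap R (Localization.Away r)) :=
      Spec.map_injective (by
        rw [Spec.map_comp, Spec.map_preimage (hV.fromSpec ≫ X.hom), reassoc_of% hψ₀, Over.w g]
        show Spec.map _ ≫ Spec.map _ = _
        rw [← Spec.map_comp, ← CommRingCat.ofHom_comp, ← IsScalarTower.algebraMap_eq])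
    exact congrArg (fun m : CommRingCat.of R ⟶ _ => m.hom x) h
  choose r V ψ hr hψ using hloc
  let Cy := fun y => CommAlgCat.of R (Localization.Away (r y))
  let loc : ∀ y, A ⟶ Cy y := fun y => CommAlgCat.ofHom (IsScalarTower.toAlgHom R A (Localization.Away (r y)))
  have hiff : ∀ y, (∃ h : Spec (CommRingCat.of (Localization.Away (r y))) ⟶ I.subscheme,
      h ≫ I.subschemeι = Spec.map (CommRingCat.ofHom (algebraMap A (Localization.Away (r y)))) ≫ g.left) ↔
      c A (eX A g) ≤ RingHom.ker (algebraMap A (Localization.Away (r y))) := by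
    intro y
    rw [← hψ y]
    refine (factors_affine_iff I (V y) _).trans ?_
    rw [hI]
    refine (key eX heX P c hP _ (Cy y) (algHomMk (ψ y)) (chartPt X (V y)) (push (loc y) g) ?_).symm.trans
      (key eX heX P c hP A (Cy y) (loc y) g (push (loc y) g) rfl)
    exact (hψ y).symm
  have hbot : P A (eX A g) ↔ c A (eX A g) = ⊥ := by
    have h := key eX heX P c hP A A (𝟙 A) g g (by simp)
    rw [h, eq_bot_iff]
    exact Iff.of_eq (congrArg (c A (eX A g) ≤ ·) ((RingHom.injective_iff_ker_eq_bot _).1 Function.injective_id))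
  rw [hbot]
  constructor
  · rintro ⟨h, hh⟩
    rw [eq_bot_iff]
    intro a ha
    rw [Ideal.mem_bot]
    have hann : Ideal.span {s : A | s * a = 0} = ⊤ := by
      by_contra hne
      obtain ⟨M, hM, hle⟩ := Ideal.exists_le_maximal _ hne
      let y : Spec (CommRingCat.of A) := ⟨M, hM.isPrime⟩
      have h0 := (hiff y).1 ⟨Spec.map (CommRingCat.ofHom (algebraMap A (Localization.Away (r y)))) ≫ h, by
        rw [Category.assoc, hh]⟩ ha
      obtain ⟨⟨_, n, rfl⟩, hn⟩ := (IsLocalization.map_eq_zero_iff (Submonoid.powers (r y)) _ a).1 h0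
      exact hr y (hM.isPrime.mem_of_pow_mem n (hle (Ideal.subset_span hn)))
    have h1 : (1 : A) ∈ Ideal.span {s : A | s * a = 0} := hann ▸ trivial
    have hker : Ideal.span {s : A | s * a = 0} ≤ LinearMap.ker (LinearMap.mulRight A a) :=
      Ideal.span_le.2 fun s hs => hs
    simpa using hker h1
  · intro hst
    obtain ⟨l, hl⟩ := WeilClosedLib.exists_factor_of_cover (j := I.subschemeι) g.left fun y => by
      let lr : Spec (CommRingCat.of (Localization.Away (r y))) ⟶ Spec (CommRingCat.of A) :=
        Spec.map (CommRingCat.ofHom (algebraMap A (Localization.Away (r y))))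
      haveI : IsOpenImmersion lr := IsOpenImmersion.of_isLocalization (r y)
      obtain ⟨h, hh⟩ := (hiff y).2 (hst ▸ bot_le)
      refine ⟨lr.opensRange, ?_, lr.isoOpensRange.inv ≫ h, ?_⟩
      · show y ∈ Set.range (PrimeSpectrum.comap (algebraMap A (Localization.Away (r y))))
        rw [PrimeSpectrum.localization_away_comap_range (Localization.Away (r y)) (r y)]
        exact hr y
      · rw [Category.assoc, hh, ← Category.assoc]
        congr 1
        rw [Iso.inv_comp_eq, Scheme.Hom.isoOpensRange_hom_ι]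
    exact ⟨l, hl⟩


end

end Groth.Agent.HilbDescLib
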