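import Mathlib
import Groth.Agent.HilbDescLib.ClosedCondition

/-! Morphisms over an affine base from their effect on affine points. -/

set_option autoImplicit false
set_option backward.isDefEq.respectTransparency false
set_option backward.isDefEq.respectTransparency.types false
set_option linter.style.haveILetI false

universe u

open AlgebraicGeometry CategoryTheory Limits

namespace Groth.Agent.HilbDescLib

variable {R : Type u} [CommRing R]

/-- The algebra map underlying a map of test schemes. -/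
noncomputable def testHom {A B : CommAlgCat.{u} R} (h : test B ⟶ test A) : A ⟶ B :=
  algHomMk
    { (Spec.preimage h.left).hom with
      commutes' := fun x => by
        have h1 : CommRingCat.ofHom (algebraMap R A) ≫ Spec.preimage h.left = CommRingCat.ofHom (algebraMap R B) :=
          Spec.map_injective (by
            rw [Spec.map_comp, Spec.map_preimage]
            exact Over.w h)
        exact congrArg (fun m : CommRingCat.of R ⟶ _ => m.hom x) h1 }

theorem testHom_left {A B : CommAlgCat.{u} R} (h : test B ⟶ test A) :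
    h.left = Spec.map (CommRingCat.ofHom (testHom h).hom.toRingHom) := (Spec.map_preimage h.left).symm

theorem points_natural {X : Over (Spec (CommRingCat.of R))} {F : CommAlgCat.{u} R ⥤ Type u}
    (eX : ∀ A : CommAlgCat.{u} R, (test A ⟶ X) ≃ F.obj A)
    (heX : ∀ (A C : CommAlgCat.{u} R) (φ : A ⟶ C) (g : test A ⟶ X) (g' : test C ⟶ X),
      g'.left = Spec.map (CommRingCat.ofHom φ.hom.toRingHom) ≫ g.left → eX C g' = F.map φ (eX A g))
    {A B : CommAlgCat.{u} R} (h : test B ⟶ test A) (g : test A ⟶ X) :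
    eX B (h ≫ g) = F.map (testHom h) (eX A g) := by
  refine heX A B _ g _ ?_
  rw [← testHom_left h]
  rfl

theorem hom_ext_points {X Y : Over (Spec (CommRingCat.of R))} {f f' : X ⟶ Y}
    (h : ∀ (A : CommAlgCat.{u} R) (g : test A ⟶ X), g ≫ f = g ≫ f') : f = f' := by
  refine Over.OverMorphism.ext (X.left.affineOpenCover.openCover.hom_ext _ _ fun j => ?_)
  letI : Algebra R (X.left.affineOpenCover.X j) := (Spec.preimage (X.left.affineOpenCover.f j ≫ X.hom)).hom.toAlgebra
  exact congrArg CommaMorphism.left (h (CommAlgCat.of R (X.left.affineOpenCover.X j))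
    (Over.homMk (X.left.affineOpenCover.f j) (Spec.map_preimage (X.left.affineOpenCover.f j ≫ X.hom)).symm))

theorem exists_hom_of_points {X Y : Over (Spec (CommRingCat.of R))}
    (η : ∀ A : CommAlgCat.{u} R, (test A ⟶ X) → (test A ⟶ Y))
    (hη : ∀ (A B : CommAlgCat.{u} R) (h : test B ⟶ test A) (g : test A ⟶ X), η B (h ≫ g) = h ≫ η A g) :
    ∃ c : X ⟶ Y, ∀ (A : CommAlgCat.{u} R) (g : test A ⟶ X), g ≫ c = η A g := by
  classical
  let 𝒰 := X.left.affineOpenCover
  let alg : ∀ j, Algebra R (𝒰.X j) := fun j => (Spec.preimage (𝒰.f j ≫ X.hom)).hom.toAlgebra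
  let C : 𝒰.I₀ → CommAlgCat.{u} R := fun j => @CommAlgCat.of R _ (𝒰.X j) _ (alg j)
  let p : ∀ j, test (C j) ⟶ X := fun j =>
    Over.homMk (𝒰.f j) (Spec.map_preimage (𝒰.f j ≫ X.hom)).symm
  -- two test points with the same image have the same value
  have hkey : ∀ (P : Over (Spec (CommRingCat.of R))) (A A' : CommAlgCat.{u} R) (a : P ⟶ test A) (a' : P ⟶ test A')
      (g : test A ⟶ X) (g' : test A' ⟶ X), a ≫ g = a' ≫ g' → a ≫ η A g = a' ≫ η A' g' := by
    intro P A A' a a' g g' hg
    refine hom_ext_points fun B b => ?_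
    rw [← Category.assoc, ← hη, ← Category.assoc, ← hη, Category.assoc, hg, ← Category.assoc]
  have hcompat : ∀ i j, pullback.fst (𝒰.f i) (𝒰.f j) ≫ (η _ (p i)).left =
      pullback.snd (𝒰.f i) (𝒰.f j) ≫ (η _ (p j)).left := by
    intro i j
    let P : Over (Spec (CommRingCat.of R)) := Over.mk ((pullback.fst (𝒰.f i) (𝒰.f j) ≫ 𝒰.f i) ≫ X.hom)
    let a : P ⟶ test (C i) := Over.homMk (pullback.fst (𝒰.f i) (𝒰.f j)) (by
      show _ ≫ (test (C i)).hom = _
      rw [← Over.w (p i), ← Category.assoc]
      rfl)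
    let a' : P ⟶ test (C j) := Over.homMk (pullback.snd (𝒰.f i) (𝒰.f j)) (by
      show _ ≫ (test (C j)).hom = _
      rw [← Over.w (p j), ← Category.assoc]
      show _ = (pullback.fst (𝒰.f i) (𝒰.f j) ≫ 𝒰.f i) ≫ X.hom
      rw [pullback.condition]
      rfl)
    exact congrArg CommaMorphism.left (hkey P _ _ a a' (p i) (p j) (Over.OverMorphism.ext pullback.condition))
  let c₀ : X.left ⟶ Y.left := 𝒰.openCover.glueMorphisms (fun j => (η _ (p j)).left) hcompat
  have hc₀ : ∀ j, 𝒰.f j ≫ c₀ = (η _ (p j)).left := fun j =>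
    Scheme.Cover.ι_glueMorphisms 𝒰.openCover (fun j => (η _ (p j)).left) hcompat j
  let c : X ⟶ Y := Over.homMk c₀ (𝒰.openCover.hom_ext _ _ fun j => by
    show 𝒰.f j ≫ c₀ ≫ Y.hom = 𝒰.f j ≫ X.hom
    rw [reassoc_of% (hc₀ j), Over.w (η _ (p j)), ← Over.w (p j)]
    rfl)
  have hpc : ∀ j, p j ≫ c = η _ (p j) := fun j => Over.OverMorphism.ext (hc₀ j)
  refine ⟨c, fun A g => Over.OverMorphism.ext (Scheme.Cover.hom_ext (𝒰.openCover.pullback₁ g.left) _ _ fun j => ?_)⟩
  let P : Over (Spec (CommRingCat.of R)) := Over.mk (pullback.fst g.left (𝒰.f j) ≫ (test A).hom)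
  let a : P ⟶ test A := Over.homMk (pullback.fst g.left (𝒰.f j)) rfl
  let a' : P ⟶ test (C j) := Over.homMk (pullback.snd g.left (𝒰.f j)) (by
    show _ ≫ (test (C j)).hom = pullback.fst g.left (𝒰.f j) ≫ (test A).hom
    rw [← Over.w (p j), ← Over.w g, ← Category.assoc, ← Category.assoc, pullback.condition]
    rfl)
  have hgg : a ≫ g = a' ≫ p j := Over.OverMorphism.ext pullback.condition
  have h : a ≫ g ≫ c = a ≫ η A g := by
    rw [reassoc_of% hgg, hpc, hkey P _ _ a a' g (p j) hgg]
  exact congrArg CommaMorphism.left h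

theorem isIso_of_points_bijective {X Y : Over (Spec (CommRingCat.of R))} (f : X ⟶ Y)
    (h : ∀ A : CommAlgCat.{u} R, Function.Bijective fun g : test A ⟶ X => g ≫ f) : IsIso f := by
  obtain ⟨d, hd⟩ := exists_hom_of_points (fun A g => (Equiv.ofBijective _ (h A)).symm g) fun A B k g =>
    (h B).1 (by
      show (Equiv.ofBijective _ (h B)).symm (k ≫ g) ≫ f = (k ≫ (Equiv.ofBijective _ (h A)).symm g) ≫ f
      rw [Category.assoc]
      exact ((Equiv.ofBijective _ (h B)).apply_symm_apply _).trans
        (congrArg (k ≫ ·) ((Equiv.ofBijective _ (h A)).apply_symm_apply g)).symm)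
  refine ⟨d, hom_ext_points fun A g => ?_, hom_ext_points fun A g => ?_⟩
  · rw [← Category.assoc, hd, Category.comp_id]
    exact (Equiv.ofBijective _ (h A)).symm_apply_apply g
  · rw [← Category.assoc, hd, Category.comp_id]
    exact (Equiv.ofBijective _ (h A)).apply_symm_apply g

end Groth.Agent.HilbDescLib
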