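import Mathlib
import Groth.Agent.HilbCurveLib.Pull
import Groth.Agent.WeilClosedLib.EssFree
import Groth.Agent.WeilClosedLib.Finite

/-! The Hilbert functor of a closed subscheme. -/

set_option autoImplicit false
set_option backward.isDefEq.respectTransparency false
set_option backward.isDefEq.respectTransparency.types false
set_option backward.defeqAttrib.useBackward true
set_option linter.style.haveILetI false
set_option maxHeartbeats 800000

universe u

open CategoryTheory CategoryTheory.Limits AlgebraicGeometry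

namespace Groth.Agent.HilbDescLib

variable {A B C : Scheme.{u}}

theorem map_comap_closed (J : A.IdealSheafData) (i : A ⟶ B) [IsClosedImmersion i] : (J.map i).comap i = J := by
  have sq : IsPullback J.subschemeι (𝟙 J.subscheme) i (J.subschemeι ≫ i) :=
    IsPullback.of_vert_isIso_mono ⟨by simp⟩
  show (J.subschemeι ≫ i).ker.comap i = J
  rw [← HilbCurveLib.ker_of_isPullback sq, J.ker_subschemeι]

theorem comap_map_closed {I : B.IdealSheafData} (i : A ⟶ B) [IsClosedImmersion i] (h : i.ker ≤ I) :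
    (I.comap i).map i = I := by
  let l := IsClosedImmersion.lift i I.subschemeι (h.trans I.ker_subschemeι.ge)
  have hI : I = l.ker.map i := by
    conv_lhs => rw [← I.ker_subschemeι, ← IsClosedImmersion.lift_fac i I.subschemeι (h.trans I.ker_subschemeι.ge)]
    rw [← Scheme.IdealSheafData.map_bot (l ≫ i), Scheme.IdealSheafData.map_comp, Scheme.IdealSheafData.map_bot]
  conv_lhs => rw [hI, map_comap_closed]
  exact hI.symm

theorem map_deg {p : B ⟶ C} (J : A.IdealSheafData) (i : A ⟶ B) [IsClosedImmersion i] {d : ℕ} :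
    Mor2.IsFinLocFreeOfDeg d ((J.map i).subschemeι ≫ p) ↔ Mor2.IsFinLocFreeOfDeg d (J.subschemeι ≫ i ≫ p) := by
  let q := J.subschemeι ≫ i
  haveI : IsClosedImmersion q := inferInstanceAs (IsClosedImmersion (J.subschemeι ≫ i))
  show Mor2.IsFinLocFreeOfDeg d (q.imageι ≫ p) ↔ _
  have e : J.subschemeι ≫ i ≫ p = q.toImage ≫ q.imageι ≫ p := by
    rw [← Category.assoc, ← Category.assoc]
    exact congrArg (· ≫ p) q.toImage_imageι.symm
  rw [e]
  generalize q.imageι ≫ p = w
  constructor
  · rintro ⟨⟨h1, h2, h3⟩, h4⟩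
    refine ⟨⟨(MorphismProperty.cancel_left_of_respectsIso @IsFinite _ _).2 h1,
      (MorphismProperty.cancel_left_of_respectsIso @Flat _ _).2 h2,
      (MorphismProperty.cancel_left_of_respectsIso @LocallyOfFinitePresentation _ _).2 h3⟩, fun y => ?_⟩
    rw [Scheme.Hom.finrank_comp_left_of_isIso]; exact h4 y
  · rintro ⟨⟨h1, h2, h3⟩, h4⟩
    haveI := (MorphismProperty.cancel_left_of_respectsIso @IsFinite q.toImage w).1 h1
    haveI := (MorphismProperty.cancel_left_of_respectsIso @Flat q.toImage w).1 h2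
    haveI := (MorphismProperty.cancel_left_of_respectsIso @LocallyOfFinitePresentation q.toImage w).1 h3
    refine ⟨⟨‹_›, ‹_›, ‹_›⟩, fun y => ?_⟩
    rw [← h4 y, Scheme.Hom.finrank_comp_left_of_isIso]

variable {X Y S : Scheme.{u}} (i : X ⟶ Y) (g : Y ⟶ S)

/-- The closed immersion of the pulled back closed subscheme. -/
noncomputable abbrev iT (T : Over S) : PicF.XT (i ≫ g) T ⟶ PicF.XT g T :=
  pullback.map (i ≫ g) T.hom g T.hom i (𝟙 _) (𝟙 S) (Category.comp_id _) (by simp)

theorem iT_snd (T : Over S) : iT i g T ≫ PicF.XTproj g T = PicF.XTproj (i ≫ g) T :=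
  (pullback.lift_snd _ _ _).trans (Category.comp_id _)

theorem isPullback_iT (T : Over S) :
    IsPullback (pullback.fst (i ≫ g) T.hom) (iT i g T) i (pullback.fst g T.hom) := by
  refine IsPullback.of_bot ?_ ?_ (IsPullback.of_hasPullback g T.hom)
  · rw [iT_snd]
    exact IsPullback.of_hasPullback (i ≫ g) T.hom
  · exact (pullback.lift_fst _ _ _).symm

instance isClosedImmersion_iT [IsClosedImmersion i] (T : Over S) : IsClosedImmersion (iT i g T) :=
  MorphismProperty.of_isPullback (isPullback_iT i g T) inferInstance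

theorem isPullback_iT_map {T T' : Over S} (m : T' ⟶ T) :
    IsPullback (PicF.XTmap (i ≫ g) m) (iT i g T') (iT i g T) (PicF.XTmap g m) := by
  refine IsPullback.of_right ?_ ?_ (isPullback_iT i g T)
  · rw [HilbCurveLib.XTmap_fst, HilbCurveLib.XTmap_fst]
    exact isPullback_iT i g T'
  · apply pullback.hom_ext
    · simp [HilbCurveLib.XTmap_fst, iT, pullback.map]
      rw [← Category.assoc, HilbCurveLib.XTmap_fst]
    · simp [HilbCurveLib.XTmap_snd, iT, pullback.map]

theorem push_eq (T : Over S) (J : (PicF.XT (i ≫ g) T).IdealSheafData) :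
    HilbD.push i g T J = J.map (iT i g T) := rfl

theorem comap_ker_iT [IsClosedImmersion i] {T T' : Over S} (m : T' ⟶ T) :
    (iT i g T).ker.comap (PicF.XTmap g m) = (iT i g T').ker :=
  (HilbCurveLib.ker_of_isPullback (isPullback_iT_map i g m).flip).symm

theorem pull_push [IsClosedImmersion i] {T T' : Over S} (m : T' ⟶ T) (J : (PicF.XT (i ≫ g) T).IdealSheafData) :
    HilbD.pull g m (HilbD.push i g T J) = HilbD.push i g T' (HilbD.pull (i ≫ g) m J) := by
  rw [HilbCurveLib.pull_eq, push_eq, HilbCurveLib.pull_eq, push_eq]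
  have hle : (iT i g T').ker ≤ (J.map (iT i g T)).comap (PicF.XTmap g m) := by
    rw [← comap_ker_iT i g m]
    refine Scheme.IdealSheafData.comap_mono _ ?_
    rw [← Scheme.IdealSheafData.map_bot]
    exact Scheme.IdealSheafData.map_mono _ bot_le
  rw [← comap_map_closed (iT i g T') hle, ← Scheme.IdealSheafData.comap_comp,
    show iT i g T' ≫ PicF.XTmap g m = PicF.XTmap (i ≫ g) m ≫ iT i g T from (isPullback_iT_map i g m).w.symm,
    Scheme.IdealSheafData.comap_comp, map_comap_closed]

theorem pull_id {f : X ⟶ S} {T : Over S} (I : (PicF.XT f T).IdealSheafData) : HilbD.pull f (𝟙 T) I = I := by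
  rw [HilbCurveLib.pull_eq]
  have : PicF.XTmap f (𝟙 T) = 𝟙 _ := by apply pullback.hom_ext <;> simp [PicF.XTmap, pullback.map]
  rw [this, Scheme.IdealSheafData.comap_id]

/-- Base change factors through the closed locus iff the family lies in the subscheme. -/
theorem factorsOn_iff [IsClosedImmersion i] {T H : Over S} (m : T ⟶ H) (Z : (PicF.XT g H).IdealSheafData) :
    WeilClosedLib.FactorsOn (Z.subschemeι ≫ PicF.XTproj g H) (pullback.snd (iT i g H) Z.subschemeι) m.left ↔
      (iT i g T).ker ≤ HilbD.pull g m Z := by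
  rw [HilbCurveLib.pull_eq]
  let ZT := Z.comap (PicF.XTmap g m)
  let a : ZT.subscheme ⟶ Z.subscheme := (Z.comapIso (PicF.XTmap g m)).hom ≫ pullback.snd _ _
  have sq : IsPullback (ZT.subschemeι ≫ PicF.XTproj g T) a m.left (Z.subschemeι ≫ PicF.XTproj g H) :=
    HilbCurveLib.isPullback_comap (HilbCurveLib.isPullback_XTmap g m) Z
  have ha : a ≫ Z.subschemeι = ZT.subschemeι ≫ PicF.XTmap g m := by
    simp only [a, ZT, Category.assoc]
    rw [← pullback.condition, ← Category.assoc, Scheme.IdealSheafData.comapIso_hom_fst]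
  constructor
  · intro h
    obtain ⟨l, hl⟩ := h a (ZT.subschemeι ≫ PicF.XTproj g T) sq.w.symm
    have hw : (l ≫ pullback.fst _ _) ≫ iT i g H = ZT.subschemeι ≫ PicF.XTmap g m := by
      rw [Category.assoc, pullback.condition, ← Category.assoc, hl, ha]
    have hlift := (isPullback_iT_map i g m).lift_snd (l ≫ pullback.fst _ _) ZT.subschemeι hw
    refine (Scheme.Hom.le_ker_comp ((isPullback_iT_map i g m).lift _ ZT.subschemeι hw) (iT i g T)).trans ?_
    rw [hlift, ZT.ker_subschemeι]
  · intro h W b c w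
    let k := sq.lift c b w.symm
    let l₀ := IsClosedImmersion.lift (iT i g T) ZT.subschemeι (h.trans ZT.ker_subschemeι.ge)
    refine ⟨k ≫ pullback.lift (l₀ ≫ PicF.XTmap (i ≫ g) m) a ?_, ?_⟩
    · rw [Category.assoc, (isPullback_iT_map i g m).w, ← Category.assoc, IsClosedImmersion.lift_fac, ha]
    · rw [Category.assoc, pullback.lift_snd]
      exact sq.lift_snd c b w.symm

/-- The Hilbert functor of a closed subscheme is a closed subfunctor. -/
theorem exists_universal_closed [IsClosedImmersion i] (d : ℕ) (H : Over S) (Z : HilbD.Obj g d H)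
    (hZ : HilbD.IsUniversal g d H Z) :
    ∃ (H₀ : Over S) (Z₀ : HilbD.Obj (i ≫ g) d H₀) (m₀ : H₀ ⟶ H), IsClosedImmersion m₀.left ∧
      HilbD.IsUniversal (i ≫ g) d H₀ Z₀ ∧ HilbD.pull g m₀ Z.1 = HilbD.push i g H₀ Z₀.1 := by
  obtain ⟨⟨hfin, hfl, hfp⟩, -⟩ := Z.2
  obtain ⟨T₀, t, ht, htrep, -⟩ := WeilClosedLib.exists_closed_of_essentiallyFree
    (f := Z.1.subschemeι ≫ PicF.XTproj g H) (j := pullback.snd (iT i g H) Z.1.subschemeι)
    (WeilClosedLib.isEssentiallyFree_of_finite_flat _)
  let H₀ : Over S := Over.mk (t ≫ H.hom)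
  let m₀ : H₀ ⟶ H := Over.homMk t rfl
  have hle : (iT i g H₀).ker ≤ HilbD.pull g m₀ Z.1 :=
    (factorsOn_iff i g m₀ Z.1).1 ((htrep _ _).1 ⟨𝟙 _, Category.id_comp _⟩)
  have hpush : HilbD.push i g H₀ ((HilbD.pull g m₀ Z.1).comap (iT i g H₀)) = HilbD.pull g m₀ Z.1 :=
    comap_map_closed _ hle
  have hdeg : Mor2.IsFinLocFreeOfDeg d (((HilbD.pull g m₀ Z.1).comap (iT i g H₀)).subschemeι ≫ PicF.XTproj (i ≫ g) H₀) := by
    rw [← iT_snd i g H₀, ← map_deg (p := PicF.XTproj g H₀) _ (iT i g H₀), comap_map_closed _ hle]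
    exact HilbCurveLib.pull_deg g m₀ Z.2
  refine ⟨H₀, ⟨_, hdeg⟩, m₀, ht, fun T Z' => ?_, hpush.symm⟩
  have hdeg' : Mor2.IsFinLocFreeOfDeg d ((HilbD.push i g T Z'.1).subschemeι ≫ PicF.XTproj g T) := by
    rw [push_eq, map_deg, iT_snd]
    exact Z'.2
  obtain ⟨m, hm, hmu⟩ := hZ T ⟨_, hdeg'⟩
  have hm' : HilbD.pull g m Z.1 = Z'.1.map (iT i g T) := hm
  have hfac : WeilClosedLib.FactorsOn (Z.1.subschemeι ≫ PicF.XTproj g H) (pullback.snd (iT i g H) Z.1.subschemeι) m.left := by
    rw [factorsOn_iff, hm']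
    rw [← Scheme.IdealSheafData.map_bot]
    exact Scheme.IdealSheafData.map_mono _ bot_le
  obtain ⟨k, hk⟩ := (htrep _ m.left).2 hfac
  let n : T ⟶ H₀ := Over.homMk k (by
    show k ≫ t ≫ H.hom = T.hom
    rw [← Category.assoc, hk, Over.w m])
  have hn : n ≫ m₀ = m := Over.OverMorphism.ext hk
  have hkey : ∀ n' : T ⟶ H₀, HilbD.push i g T (HilbD.pull (i ≫ g) n' ((HilbD.pull g m₀ Z.1).comap (iT i g H₀))) =
      HilbD.pull g (n' ≫ m₀) Z.1 := fun n' => by
    rw [← pull_push, hpush, ← HilbCurveLib.pull_comp]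
  refine ⟨n, ?_, fun n' hn' => ?_⟩
  · have h1 := hkey n
    rw [hn, hm', push_eq] at h1
    have h2 := congrArg (fun I => Scheme.IdealSheafData.comap I (iT i g T)) h1
    simp only [map_comap_closed] at h2
    exact h2
  · have h1 := hkey n'
    rw [hn'] at h1
    have h2 : n' ≫ m₀ = m := hmu _ h1.symm
    haveI := ht
    refine Over.OverMorphism.ext ((cancel_mono t).1 ?_)
    exact (congrArg CommaMorphism.left (h2.trans hn.symm) :)

end Groth.Agent.HilbDescLib
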