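import Mathlib

/-! Quotients of `M₂` among quotients of `M₁` along a surjection `M₁ → M₂`. -/

set_option autoImplicit false
set_option backward.isDefEq.respectTransparency false
set_option backward.isDefEq.respectTransparency.types false
set_option linter.style.haveILetI false

universe u

open TensorProduct Module

namespace Groth.Agent.HilbDescLib

variable {R : Type u} [CommRing R] {M₁ M₂ : Type u} [AddCommGroup M₁] [Module R M₁] [AddCommGroup M₂] [Module R M₂]
  {v : M₁ →ₗ[R] M₂} (hv : Function.Surjective v) {k : ℕ}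
  {A C : Type u} [CommRing A] [Algebra R A] [CommRing C] [Algebra R C]

include hv in
theorem baseChange_surj : Function.Surjective (v.baseChange A) := LinearMap.baseChange_surjective A hv

/-- The quotient of `A ⊗ M₁` by a pulled back submodule. -/
noncomputable def comapEquiv (N : Submodule A (A ⊗[R] M₂)) :
    ((A ⊗[R] M₁) ⧸ N.comap (v.baseChange A)) ≃ₗ[A] (A ⊗[R] M₂) ⧸ N :=
  Submodule.quotEquivOfEq _ _ (by rw [LinearMap.ker_comp, Submodule.ker_mkQ]) ≪≫ₗ
    (N.mkQ ∘ₗ v.baseChange A).quotKerEquivOfSurjective (N.mkQ_surjective.comp (baseChange_surj hv))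

/-- A point of the Grassmannian of `M₂` as a point of the Grassmannian of `M₁`. -/
noncomputable def grComap (N : Grassmannian A (A ⊗[R] M₂) k) : Grassmannian A (A ⊗[R] M₁) k where
  toSubmodule := N.toSubmodule.comap (v.baseChange A)
  finite_quotient := Module.Finite.equiv (comapEquiv hv N.toSubmodule).symm
  projective_quotient := Module.Projective.of_equiv (comapEquiv hv N.toSubmodule).symm
  rankAtStalk_eq p := by
    rw [Module.rankAtStalk_eq_of_equiv (comapEquiv hv N.toSubmodule)]
    exact N.rankAtStalk_eq p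

theorem grComap_map (f : A →ₐ[R] C) (N : Grassmannian A (A ⊗[R] M₂) k) :
    Grassmannian.map f (grComap hv N) = grComap hv (Grassmannian.map f N) := by
  letI : Algebra A C := f.toAlgebra
  haveI : IsScalarTower R A C := IsScalarTower.of_algebraMap_eq' f.comp_algebraMap.symm
  have h : ∀ z, ((comapEquiv hv N.toSubmodule).baseChange A C) (Grassmannian.baseChangeMkQ C (grComap hv N).toSubmodule z) =
      Grassmannian.baseChangeMkQ C N.toSubmodule (v.baseChange C z) := by
    intro z
    induction z using TensorProduct.induction_on with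
    | zero => simp
    | tmul c m =>
      simp only [Grassmannian.baseChangeMkQ, LinearMap.comp_apply, LinearEquiv.coe_coe,
        AlgebraTensorModule.cancelBaseChange_symm_tmul, LinearMap.baseChange_tmul, LinearEquiv.baseChange_tmul,
        Submodule.mkQ_apply]
      rfl
    | add x y hx hy => simp only [map_add, hx, hy]
  refine Grassmannian.ext (Submodule.ext fun z => ?_)
  show z ∈ (Grassmannian.baseChangeMkQ C (grComap hv N).toSubmodule).ker ↔
    v.baseChange C z ∈ (Grassmannian.baseChangeMkQ C N.toSubmodule).ker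
  rw [LinearMap.mem_ker, LinearMap.mem_ker, ← h, LinearEquiv.map_eq_zero_iff]

/-- The quotient of `A ⊗ M₂` by a pushed forward submodule. -/
noncomputable def mapEquiv (N : Submodule A (A ⊗[R] M₁)) (h : LinearMap.ker (v.baseChange A) ≤ N) :
    ((A ⊗[R] M₂) ⧸ N.map (v.baseChange A)) ≃ₗ[A] (A ⊗[R] M₁) ⧸ N :=
  (comapEquiv hv _).symm ≪≫ₗ Submodule.quotEquivOfEq _ _ (by
    rw [Submodule.comap_map_eq, sup_eq_left.2 h])

/-- A point of the Grassmannian of `M₁` killing the kernel as a point of the Grassmannian of `M₂`. -/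
noncomputable def grPush (N : Grassmannian A (A ⊗[R] M₁) k) (h : LinearMap.ker (v.baseChange A) ≤ N.toSubmodule) :
    Grassmannian A (A ⊗[R] M₂) k where
  toSubmodule := N.toSubmodule.map (v.baseChange A)
  finite_quotient := Module.Finite.equiv (mapEquiv hv N.toSubmodule h).symm
  projective_quotient := Module.Projective.of_equiv (mapEquiv hv N.toSubmodule h).symm
  rankAtStalk_eq p := by
    rw [Module.rankAtStalk_eq_of_equiv (mapEquiv hv N.toSubmodule h)]
    exact N.rankAtStalk_eq p

theorem grComap_grPush (N : Grassmannian A (A ⊗[R] M₁) k) (h : LinearMap.ker (v.baseChange A) ≤ N.toSubmodule) :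
    grComap hv (grPush hv N h) = N := by
  refine Grassmannian.ext ?_
  show (N.toSubmodule.map (v.baseChange A)).comap (v.baseChange A) = _
  rw [Submodule.comap_map_eq, sup_eq_left.2 h]

theorem grComap_injective : Function.Injective (grComap hv : Grassmannian A (A ⊗[R] M₂) k → _) := by
  intro N N' h
  exact Grassmannian.ext (Submodule.comap_injective_of_surjective (baseChange_surj hv) (congrArg Grassmannian.toSubmodule h))

theorem ker_le_grComap (N : Grassmannian A (A ⊗[R] M₂) k) : LinearMap.ker (v.baseChange A) ≤ (grComap hv N).toSubmodule :=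
  LinearMap.ker_le_comap _

include hv in
theorem ker_baseChange_le_iff (N : Submodule A (A ⊗[R] M₁)) :
    LinearMap.ker (v.baseChange A) ≤ N ↔ ∀ m ∈ LinearMap.ker v, (1 : A) ⊗ₜ[R] m ∈ N := by
  constructor
  · intro h m hm
    refine h ?_
    rw [LinearMap.mem_ker, LinearMap.baseChange_tmul, LinearMap.mem_ker.1 hm, TensorProduct.tmul_zero]
  · intro h x hx
    have hex : Function.Exact ((LinearMap.ker v).subtype.lTensor A) (v.lTensor A) :=
      lTensor_exact A (LinearMap.exact_subtype_ker_map v) hv
    obtain ⟨y, rfl⟩ := (hex x).1 hx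
    clear hx
    induction y using TensorProduct.induction_on with
    | zero => simp
    | tmul a m =>
      rw [LinearMap.lTensor_tmul]
      rw [show a ⊗ₜ[R] (LinearMap.ker v).subtype m = a • ((1 : A) ⊗ₜ[R] (m : M₁)) by
        rw [TensorProduct.smul_tmul', smul_eq_mul, mul_one]; rfl]
      exact N.smul_mem a (h m m.2)
    | add x y hx hy => rw [map_add]; exact N.add_mem hx hy

/-- The coefficients obstructing killing the kernel. -/
def killIdeal (v : M₁ →ₗ[R] M₂) (N : Grassmannian A (A ⊗[R] M₁) k) : Ideal A :=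
  Ideal.span {a | ∃ (m : M₁) (φ : ((A ⊗[R] M₁) ⧸ N.toSubmodule) →ₗ[A] A),
    m ∈ LinearMap.ker v ∧ φ (Submodule.Quotient.mk ((1 : A) ⊗ₜ[R] m)) = a}

include hv in
theorem killIdeal_iff (f : A →ₐ[R] C) (N : Grassmannian A (A ⊗[R] M₁) k) :
    LinearMap.ker (v.baseChange C) ≤ (Grassmannian.map f N).toSubmodule ↔ killIdeal v N ≤ RingHom.ker f := by
  letI : Algebra A C := f.toAlgebra
  haveI : IsScalarTower R A C := IsScalarTower.of_algebraMap_eq' f.comp_algebraMap.symm
  rw [ker_baseChange_le_iff hv]
  have hbc : ∀ m : M₁, Grassmannian.baseChangeMkQ C N.toSubmodule ((1 : C) ⊗ₜ[R] m) =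
      (1 : C) ⊗ₜ[A] Submodule.Quotient.mk ((1 : A) ⊗ₜ[R] m) := fun m => by
    simp [Grassmannian.baseChangeMkQ]
  have hmem : ∀ m : M₁, (1 : C) ⊗ₜ[R] m ∈ (Grassmannian.map f N).toSubmodule ↔
      (1 : C) ⊗ₜ[A] (Submodule.Quotient.mk ((1 : A) ⊗ₜ[R] m) : (A ⊗[R] M₁) ⧸ N.toSubmodule) = 0 := fun m => by
    rw [← hbc]
    exact LinearMap.mem_ker
  simp only [hmem]
  constructor
  · intro h
    refine Ideal.span_le.2 ?_
    rintro _ ⟨m, φ, hm, rfl⟩
    have h3 := congrArg ((TensorProduct.rid A C).toLinearMap ∘ₗ φ.lTensor C) (h m hm)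
    simpa [RingHom.mem_ker, Algebra.smul_def, RingHom.algebraMap_toAlgebra] using h3
  · intro h m hm
    obtain ⟨s, hs⟩ := Module.Projective.out (R := A) (P := (A ⊗[R] M₁) ⧸ N.toSubmodule)
    rw [← hs (Submodule.Quotient.mk _), Finsupp.linearCombination_apply, Finsupp.sum, TensorProduct.tmul_sum]
    refine Finset.sum_eq_zero fun i _ => ?_
    have h0 : f ((s (Submodule.Quotient.mk ((1 : A) ⊗ₜ[R] m))) i) = 0 :=
      h (Ideal.subset_span ⟨m, (Finsupp.lapply i) ∘ₗ s, hm, rfl⟩)
    rw [← TensorProduct.smul_tmul, Algebra.smul_def, RingHom.algebraMap_toAlgebra]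
    show ((f _) * 1) ⊗ₜ[A] _ = _
    erw [h0]
    rw [zero_mul, TensorProduct.zero_tmul]

end Groth.Agent.HilbDescLib
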