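import Mathlib
import Groth.Agent.HilbDescLib.Push

/-! Hilbert schemes of points are separated. -/

set_option autoImplicit false
set_option backward.isDefEq.respectTransparency false
set_option backward.isDefEq.respectTransparency.types false
set_option backward.defeqAttrib.useBackward true
set_option linter.style.haveILetI false
set_option maxHeartbeats 800000

universe u

open CategoryTheory CategoryTheory.Limits AlgebraicGeometry

namespace Groth.Agent.HilbDescLib

variable {X S : Scheme.{u}} (f : X ⟶ S)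

/-- Containment of closed subschemes after base change, as a factorisation. -/
theorem factorsOn_le_iff {T H : Over S} (m : T ⟶ H) (Q Z : (PicF.XT f H).IdealSheafData) :
    WeilClosedLib.FactorsOn (Z.subschemeι ≫ PicF.XTproj f H) (pullback.snd Q.subschemeι Z.subschemeι) m.left ↔
      HilbD.pull f m Q ≤ HilbD.pull f m Z := by
  rw [HilbCurveLib.pull_eq, HilbCurveLib.pull_eq]
  let ZT := Z.comap (PicF.XTmap f m)
  let a : ZT.subscheme ⟶ Z.subscheme := (Z.comapIso (PicF.XTmap f m)).hom ≫ pullback.snd _ _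
  have sq : IsPullback (ZT.subschemeι ≫ PicF.XTproj f T) a m.left (Z.subschemeι ≫ PicF.XTproj f H) :=
    HilbCurveLib.isPullback_comap (HilbCurveLib.isPullback_XTmap f m) Z
  have ha : a ≫ Z.subschemeι = ZT.subschemeι ≫ PicF.XTmap f m := by
    simp only [a, ZT, Category.assoc]
    rw [← pullback.condition, ← Category.assoc, Scheme.IdealSheafData.comapIso_hom_fst]
  constructor
  · intro h
    obtain ⟨l, hl⟩ := h a (ZT.subschemeι ≫ PicF.XTproj f T) sq.w.symm
    have hw : (l ≫ pullback.fst _ _) ≫ Q.subschemeι = ZT.subschemeι ≫ PicF.XTmap f m := by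
      rw [Category.assoc, pullback.condition, ← Category.assoc, hl, ha]
    have h1 : Q ≤ ZT.map (PicF.XTmap f m) := by
      show Q ≤ (ZT.subschemeι ≫ PicF.XTmap f m).ker
      rw [← hw]
      exact Q.ker_subschemeι.ge.trans (Scheme.Hom.le_ker_comp _ _)
    exact Scheme.IdealSheafData.le_map_iff_comap_le.1 h1
  · intro h W b c w
    have h2 : Q ≤ (ZT.subschemeι ≫ PicF.XTmap f m).ker := Scheme.IdealSheafData.le_map_iff_comap_le.2 h
    let l₀ := IsClosedImmersion.lift Q.subschemeι (ZT.subschemeι ≫ PicF.XTmap f m) (Q.ker_subschemeι.le.trans h2)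
    refine ⟨sq.lift c b w.symm ≫ pullback.lift l₀ a ?_, ?_⟩
    · rw [IsClosedImmersion.lift_fac, ha]
    · rw [Category.assoc, pullback.lift_snd]
      exact sq.lift_snd c b w.symm

/-- A representing scheme of the Hilbert functor of points is separated. -/
theorem isSeparated_of_isUniversal (d : ℕ) (H : Over S) (Z : HilbD.Obj f d H)
    (hZ : HilbD.IsUniversal f d H Z) : IsSeparated H.hom := by
  let P : Over S := Over.mk (pullback.fst H.hom H.hom ≫ H.hom)
  let p₁ : P ⟶ H := Over.homMk (pullback.fst H.hom H.hom) rfl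
  let p₂ : P ⟶ H := Over.homMk (pullback.snd H.hom H.hom) pullback.condition.symm
  have h₁ := HilbCurveLib.pull_deg f p₁ Z.2
  have h₂ := HilbCurveLib.pull_deg f p₂ Z.2
  obtain ⟨⟨_, _, _⟩, -⟩ := h₁
  obtain ⟨⟨_, _, _⟩, -⟩ := h₂
  obtain ⟨T₁, t₁, ht₁, hr₁, -⟩ := WeilClosedLib.exists_closed_of_essentiallyFree
    (f := (HilbD.pull f p₁ Z.1).subschemeι ≫ PicF.XTproj f P)
    (j := pullback.snd (HilbD.pull f p₂ Z.1).subschemeι (HilbD.pull f p₁ Z.1).subschemeι)
    (WeilClosedLib.isEssentiallyFree_of_finite_flat _)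
  obtain ⟨T₂, t₂, ht₂, hr₂, -⟩ := WeilClosedLib.exists_closed_of_essentiallyFree
    (f := (HilbD.pull f p₂ Z.1).subschemeι ≫ PicF.XTproj f P)
    (j := pullback.snd (HilbD.pull f p₁ Z.1).subschemeι (HilbD.pull f p₂ Z.1).subschemeι)
    (WeilClosedLib.isEssentiallyFree_of_finite_flat _)
  haveI := ht₁; haveI := ht₂
  let e := pullback.fst t₁ t₂ ≫ t₁
  let E : Over S := Over.mk (e ≫ P.hom)
  let em : E ⟶ P := Over.homMk e rfl
  have he : em ≫ p₁ = em ≫ p₂ := by
    refine (hZ E ⟨_, HilbCurveLib.pull_deg f (em ≫ p₁) Z.2⟩).unique rfl ?_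
    show HilbD.pull f (em ≫ p₂) Z.1 = HilbD.pull f (em ≫ p₁) Z.1
    rw [HilbCurveLib.pull_comp, HilbCurveLib.pull_comp]
    refine le_antisymm ((factorsOn_le_iff f em _ _).1 ((hr₁ _ _).1 ⟨pullback.fst t₁ t₂, rfl⟩))
      ((factorsOn_le_iff f em _ _).1 ((hr₂ _ _).1 ⟨pullback.snd t₁ t₂, ?_⟩))
    exact pullback.condition.symm
  let δ : H ⟶ P := Over.homMk (pullback.diagonal H.hom) (by simp [P])
  have hδ₁ : δ ≫ p₁ = 𝟙 H := Over.OverMorphism.ext (pullback.diagonal_fst _)
  have hδ₂ : δ ≫ p₂ = 𝟙 H := Over.OverMorphism.ext (pullback.diagonal_snd _)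
  have hδeq : HilbD.pull f δ (HilbD.pull f p₁ Z.1) = HilbD.pull f δ (HilbD.pull f p₂ Z.1) := by
    rw [← HilbCurveLib.pull_comp, ← HilbCurveLib.pull_comp, hδ₁, hδ₂]
  obtain ⟨k₁, hk₁⟩ := (hr₁ _ δ.left).2 ((factorsOn_le_iff f δ _ _).2 hδeq.ge)
  obtain ⟨k₂, hk₂⟩ := (hr₂ _ δ.left).2 ((factorsOn_le_iff f δ _ _).2 hδeq.le)
  let k : H.left ⟶ pullback t₁ t₂ := pullback.lift k₁ k₂ (hk₁.trans hk₂.symm)
  have hk : k ≫ e = pullback.diagonal H.hom := by
    simp only [k, e, pullback.lift_fst_assoc]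
    exact hk₁
  have hel : e ≫ pullback.fst H.hom H.hom = e ≫ pullback.snd H.hom H.hom := congrArg CommaMorphism.left he
  have hq : (e ≫ pullback.fst H.hom H.hom) ≫ pullback.diagonal H.hom = e := by
    apply pullback.hom_ext
    · rw [Category.assoc, pullback.diagonal_fst, Category.comp_id]
    · rw [Category.assoc, pullback.diagonal_snd, Category.comp_id, hel]
  haveI : IsClosedImmersion e := inferInstanceAs (IsClosedImmersion (pullback.fst t₁ t₂ ≫ t₁))
  haveI : IsIso k := ⟨e ≫ pullback.fst H.hom H.hom,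
    by rw [← Category.assoc, hk, pullback.diagonal_fst],
    (cancel_mono e).1 (by rw [Category.assoc, hk, hq, Category.id_comp])⟩
  exact ⟨hk ▸ inferInstance⟩

end Groth.Agent.HilbDescLib
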