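import Mathlib

/-! Ideals among the points of a Grassmannian form a closed condition. -/

set_option autoImplicit false
set_option linter.style.haveILetI false

universe u

open TensorProduct Module

namespace Groth.Agent.HilbDescLib

variable {R : Type u} [CommRing R] {B : Type u} [Ring B] [Algebra R B] {e : ℕ}

/-- The submodule is stable under the algebra. -/
def IsStable {A : Type u} [CommRing A] [Algebra R A] (N : Grassmannian A (A ⊗[R] B) e) : Prop :=
  ∀ (b : B) (x : A ⊗[R] B), x ∈ N.toSubmodule → ((1 : A) ⊗ₜ[R] b) * x ∈ N.toSubmodule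

/-- The ideal of coefficients obstructing stability. -/
def stableIdeal {A : Type u} [CommRing A] [Algebra R A] (N : Grassmannian A (A ⊗[R] B) e) : Ideal A :=
  Ideal.span {a | ∃ (b : B) (x : A ⊗[R] B) (φ : ((A ⊗[R] B) ⧸ N.toSubmodule) →ₗ[A] A),
    x ∈ N.toSubmodule ∧ φ (Submodule.Quotient.mk (((1 : A) ⊗ₜ[R] b) * x)) = a}

variable {A C : Type u} [CommRing A] [Algebra R A] [CommRing C] [Algebra R C]

theorem isStable_map_iff (f : A →ₐ[R] C) (N : Grassmannian A (A ⊗[R] B) e) :
    IsStable (Grassmannian.map f N) ↔ stableIdeal N ≤ RingHom.ker f := by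
  letI : Algebra A C := f.toAlgebra
  haveI : IsScalarTower R A C := IsScalarTower.of_algebraMap_eq' f.comp_algebraMap.symm
  let ι : A ⊗[R] B →ₐ[R] C ⊗[R] B := Algebra.TensorProduct.map f (AlgHom.id R B)
  let bc := Grassmannian.baseChangeMkQ C N.toSubmodule
  have hbc : ∀ (c : C) (z : A ⊗[R] B), bc ((c ⊗ₜ[R] (1 : B)) * ι z) = c ⊗ₜ[A] Submodule.Quotient.mk z := by
    intro c z
    induction z using TensorProduct.induction_on with
    | zero => simp
    | tmul a b =>
      simp only [ι, Algebra.TensorProduct.map_tmul, AlgHom.id_apply, Algebra.TensorProduct.tmul_mul_tmul, one_mul,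
        bc, Grassmannian.baseChangeMkQ, LinearMap.comp_apply, LinearEquiv.coe_coe,
        AlgebraTensorModule.cancelBaseChange_symm_tmul, LinearMap.baseChange_tmul, Submodule.mkQ_apply]
      have ha : a ⊗ₜ[R] b = a • ((1 : A) ⊗ₜ[R] b) := by rw [TensorProduct.smul_tmul', smul_eq_mul, mul_one]
      rw [ha, Submodule.Quotient.mk_smul, ← TensorProduct.smul_tmul, Algebra.smul_def, mul_comm c]
      rfl
    | add y w hy hw => simp only [map_add, mul_add, Submodule.Quotient.mk_add, TensorProduct.tmul_add, hy, hw]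
  have hmem : ∀ x, x ∈ (Grassmannian.map f N).toSubmodule ↔ bc x = 0 := fun x => by
    rw [Grassmannian.map_toSubmodule]
    exact LinearMap.mem_ker
  have hid : ∀ z, ((1 : C) ⊗ₜ[R] (1 : B)) * ι z = ι z := fun z => one_mul _
  have hι : ∀ b, ι ((1 : A) ⊗ₜ[R] b) = (1 : C) ⊗ₜ[R] b := fun b => by simp [ι]
  constructor
  · intro h
    refine Ideal.span_le.2 ?_
    rintro _ ⟨b, x, φ, hx, rfl⟩
    have h1 : ι x ∈ (Grassmannian.map f N).toSubmodule := by
      rw [hmem, ← hid, hbc, (Submodule.Quotient.mk_eq_zero _).2 hx, TensorProduct.tmul_zero]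
    have h2 := h b _ h1
    rw [← hι, ← map_mul, hmem, ← hid, hbc] at h2
    have h3 := congrArg ((TensorProduct.rid A C).toLinearMap ∘ₗ φ.lTensor C) h2
    simpa [RingHom.mem_ker, Algebra.smul_def, RingHom.algebraMap_toAlgebra] using h3
  · intro h b x hx
    rw [hmem] at hx
    have hex : Function.Exact (N.toSubmodule.subtype.lTensor C) (N.toSubmodule.mkQ.lTensor C) :=
      lTensor_exact C (LinearMap.exact_subtype_mkQ _) N.toSubmodule.mkQ_surjective
    obtain ⟨y, hy⟩ := (hex ((AlgebraTensorModule.cancelBaseChange R A C C B).symm x)).1 hx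
    have hx' : x = AlgebraTensorModule.cancelBaseChange R A C C B (N.toSubmodule.subtype.lTensor C y) := by
      rw [hy, LinearEquiv.apply_symm_apply]
    rw [hmem, hx']
    clear hx' hy hx
    induction y using TensorProduct.induction_on with
    | zero => simp
    | add y w hy hw => rw [map_add, map_add, mul_add, map_add, hy, hw, add_zero]
    | tmul c z =>
      have hcz : ∀ w : A ⊗[R] B, AlgebraTensorModule.cancelBaseChange R A C C B (c ⊗ₜ[A] w) = (c ⊗ₜ[R] (1 : B)) * ι w := by
        intro w
        induction w using TensorProduct.induction_on with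
        | zero => simp
        | tmul a b' =>
          simp only [AlgebraTensorModule.cancelBaseChange_tmul, ι, Algebra.TensorProduct.map_tmul, AlgHom.id_apply,
            Algebra.TensorProduct.tmul_mul_tmul, one_mul, Algebra.smul_def]
          rw [mul_comm c]
          rfl
        | add y w hy hw => rw [TensorProduct.tmul_add, map_add, map_add, mul_add, hy, hw]
      have hcomm : Commute (c ⊗ₜ[R] (1 : B)) (ι ((1 : A) ⊗ₜ[R] b)) :=
        (Algebra.commute_algebraMap_left c (ι ((1 : A) ⊗ₜ[R] b)) :)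
      rw [LinearMap.lTensor_tmul, hcz, ← hι b, ← mul_assoc, ← hcomm.eq, mul_assoc, ← map_mul, hbc]
      obtain ⟨s, hs⟩ := Module.Projective.out (R := A) (P := (A ⊗[R] B) ⧸ N.toSubmodule)
      rw [← hs (Submodule.Quotient.mk _), Finsupp.linearCombination_apply, Finsupp.sum, TensorProduct.tmul_sum]
      refine Finset.sum_eq_zero fun i _ => ?_
      have h0 : f ((s (Submodule.Quotient.mk (((1 : A) ⊗ₜ[R] b) * z.1))) i) = 0 :=
        h (Ideal.subset_span ⟨b, z.1, (Finsupp.lapply i) ∘ₗ s, z.2, rfl⟩)
      rw [← TensorProduct.smul_tmul, Algebra.smul_def, RingHom.algebraMap_toAlgebra]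
      show ((f _) * c) ⊗ₜ[A] _ = _
      erw [h0]
      rw [zero_mul, TensorProduct.zero_tmul]

theorem isStable_iff (N : Grassmannian A (A ⊗[R] B) e) : IsStable N ↔ stableIdeal N = ⊥ := by
  constructor
  · intro h
    refine Ideal.span_eq_bot.2 ?_
    rintro _ ⟨b, x, φ, hx, rfl⟩
    rw [(Submodule.Quotient.mk_eq_zero _).2 (h b x hx), map_zero]
  · intro h b x hx
    rw [← Submodule.Quotient.mk_eq_zero]
    obtain ⟨s, hs⟩ := Module.Projective.out (R := A) (P := (A ⊗[R] B) ⧸ N.toSubmodule)
    rw [← hs (Submodule.Quotient.mk _)]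
    have : s (Submodule.Quotient.mk (((1 : A) ⊗ₜ[R] b) * x)) = 0 := Finsupp.ext fun i => by
      have hi : (s (Submodule.Quotient.mk (((1 : A) ⊗ₜ[R] b) * x))) i ∈ stableIdeal N :=
        Ideal.subset_span ⟨b, x, (Finsupp.lapply i) ∘ₗ s, hx, rfl⟩
      rwa [h, Ideal.mem_bot] at hi
    rw [this, map_zero]

end Groth.Agent.HilbDescLib
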